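import Mathlib
import Cfsg.Agent.Helper58.Marggraf
import Cfsg.Agent.Helper60.Marg.Defs

/-!
# (CPar) of helper60's S3620 (Marggraf): in a Steiner system `S(t, t + 1, 2m + 1)` the number `t`
is even (the blocks through a `(t-1)`-set `A` partition the complement of `A` into pairs)
-/

set_option autoImplicit false

namespace Cfsg.Agent.Helper33.Marg

open Cfsg.Agent.Helper60.Marg Cfsg.Agent.Helper58 MulAction

section comb

variable {Ω : Type*} [DecidableEq Ω] [Fintype Ω]

/-- (CPar) -/
theorem stSys_even_t {t m : ℕ} {Δ : Finset Ω} (S : StSys Ω t 2 Δ)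
    (hn : Fintype.card Ω = 2 * m + 1) (ht1 : 1 ≤ t) (htm : t < m) : Even t := by
  -- a `(t-1)`-set
  obtain ⟨A, hA⟩ : ∃ A : Finset Ω, A.card = t - 1 := by
    have : t - 1 ≤ (Finset.univ : Finset Ω).card := by
      rw [Finset.card_univ, hn]; omega
    obtain ⟨A, -, hA⟩ := Finset.exists_subset_card_eq this
    exact ⟨A, hA⟩
  have : Nonempty Ω := by
    rw [← Fintype.card_pos_iff, hn]; omega
  have hcX : ∀ x, x ∉ A → (insert x A).card = t := by
    intro x hx
    rw [Finset.card_insert_of_notMem hx]; omega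
  -- the partner of a point outside `A`
  have hex : ∀ x, x ∉ A → ∃ b, S.Q (insert x A) \ insert x A = {b} := by
    intro x hx
    apply Finset.card_eq_one.mp
    have hc := hcX x hx
    rw [Finset.card_sdiff_of_subset (S.sub _ hc), hc]
    have := S.card _ hc
    omega
  choose! σ hσ using hex
  have hσmem : ∀ x, x ∉ A → σ x ∈ S.Q (insert x A) ∧ σ x ≠ x ∧ σ x ∉ A := by
    intro x hx
    have h1 : σ x ∈ S.Q (insert x A) \ insert x A := by
      rw [hσ x hx]; exact Finset.mem_singleton_self _
    rw [Finset.mem_sdiff, Finset.mem_insert, not_or] at h1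
    exact ⟨h1.1, h1.2.1, h1.2.2⟩
  have hσσ : ∀ x, x ∉ A → σ (σ x) = x := by
    intro x hx
    obtain ⟨h1, h2, h3⟩ := hσmem x hx
    have hc := hcX x hx
    have hc' := hcX (σ x) h3
    have hsub : insert (σ x) A ⊆ S.Q (insert x A) := by
      intro z hz
      rw [Finset.mem_insert] at hz
      rcases hz with rfl | hz
      · exact h1
      · exact S.sub _ hc (Finset.mem_insert_of_mem hz)
    have hQ : S.Q (insert (σ x) A) = S.Q (insert x A) := S.eq _ _ hc hc' hsub
    have hx' : x ∈ S.Q (insert (σ x) A) \ insert (σ x) A := by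
      rw [hQ, Finset.mem_sdiff, Finset.mem_insert, not_or]
      exact ⟨S.sub _ hc (Finset.mem_insert_self _ _), h2.symm, hx⟩
    rw [hσ (σ x) h3, Finset.mem_singleton] at hx'
    exact hx'.symm
  -- the complement of `A` has an even number of points
  have hsum : ∑ x ∈ Aᶜ, (1 : ZMod 2) = 0 := by
    refine Finset.sum_involution (fun a _ => σ a) ?_ ?_ ?_ ?_
    · intro a _
      decide
    · intro a ha _
      exact (hσmem a (Finset.mem_compl.mp ha)).2.1
    · intro a ha
      exact Finset.mem_compl.mpr (hσmem a (Finset.mem_compl.mp ha)).2.2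
    · intro a ha
      exact hσσ a (Finset.mem_compl.mp ha)
  rw [Finset.sum_const, nsmul_eq_mul, mul_one, ZMod.natCast_eq_zero_iff_even, Finset.card_compl,
    hn, hA] at hsum
  rw [Nat.even_iff] at hsum ⊢
  omega

end comb

end Cfsg.Agent.Helper33.Marg
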