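import Mathlib
import Cfsg.Agent.Helper58.Marggraf
import Cfsg.Agent.Helper60.Marg.Defs

/-!
# (CS) of helper60's S3620 (Marggraf): rotation of the ternary relation `Eqv (insert d A) x y`
-/

set_option autoImplicit false

namespace Cfsg.Agent.Helper33.Marg

open Cfsg.Agent.Helper60.Marg Cfsg.Agent.Helper58 MulAction

section comb

variable {Ω : Type*} [DecidableEq Ω]

/-- inclusion-exclusion for three points -/
theorem card_filter_incl_excl (S : Finset (Finset Ω)) (a b c : Ω) :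
    (S.filter (fun T => a ∈ T ∧ b ∉ T ∧ c ∉ T)).card + (S.filter (fun T => a ∈ T ∧ b ∈ T)).card +
        (S.filter (fun T => a ∈ T ∧ c ∈ T)).card =
      (S.filter (fun T => a ∈ T)).card + (S.filter (fun T => a ∈ T ∧ b ∈ T ∧ c ∈ T)).card := by
  simp only [Finset.card_filter]
  rw [← Finset.sum_add_distrib, ← Finset.sum_add_distrib, ← Finset.sum_add_distrib]
  apply Finset.sum_congr rfl
  intro T _
  by_cases ha : a ∈ T <;> by_cases hb : b ∈ T <;> by_cases hc : c ∈ T <;> simp [ha, hb, hc]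

theorem mem_TA_insert (𝒯 : Finset (Finset Ω)) (A : Finset Ω) (d : Ω) (T : Finset Ω) :
    T ∈ TA 𝒯 (insert d A) ↔ T ∈ TA 𝒯 A ∧ d ∉ T := by
  unfold TA
  rw [Finset.mem_filter, Finset.mem_filter, Finset.disjoint_insert_right]
  tauto

variable [Fintype Ω]

/-- (CS) rotation of the ternary relation -/
theorem eqv_rot {𝒯 : Finset (Finset Ω)} {m t e : ℕ} (h : CoreHyp 𝒯 m t e)
    (A : Finset Ω) (hA : A.card + 2 = t) (d x y : Ω) (hd : d ∉ A) (hx : x ∉ A) (hy : y ∉ A)
    (hdx : d ≠ x) (hdy : d ≠ y) (hxy : x ≠ y)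
    (hE : Eqv 𝒯 (insert d A) x y) : Eqv 𝒯 (insert x A) d y := by
  set S := TA 𝒯 A with hS
  -- the constants
  have h1 : ∀ p : Ω, p ∉ A → (S.filter (fun T => p ∈ T)).card = (S.filter (fun T => x ∈ T)).card :=
    fun p hp => h.one A hA p x hp hx
  have h2 : ∀ p q : Ω, p ∉ A → q ∉ A → p ≠ q →
      (S.filter (fun T => p ∈ T ∧ q ∈ T)).card = (S.filter (fun T => x ∈ T ∧ d ∈ T)).card :=
    fun p q hp hq hpq => h.two A hA p q x d hp hq hx hd hpq hdx.symm
  -- the triple count, in its three shapes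
  have hc1 : (S.filter (fun T => d ∈ T ∧ x ∈ T ∧ y ∈ T)).card =
      (S.filter (fun T => x ∈ T ∧ d ∈ T ∧ y ∈ T)).card := by
    congr 1
    apply Finset.filter_congr
    intro T _
    tauto
  have hc2 : (S.filter (fun T => y ∈ T ∧ x ∈ T ∧ d ∈ T)).card =
      (S.filter (fun T => x ∈ T ∧ d ∈ T ∧ y ∈ T)).card := by
    congr 1
    apply Finset.filter_congr
    intro T _
    tauto
  -- the hypothesis: nothing separates `x` from `y` off `d`
  have hn0 : (S.filter (fun T => x ∈ T ∧ d ∉ T ∧ y ∉ T)).card = 0 := by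
    rw [Finset.card_eq_zero, Finset.filter_eq_empty_iff]
    intro T hT hcon
    obtain ⟨hxT, hdT, hyT⟩ := hcon
    have hmem : T ∈ TA 𝒯 (insert d A) := (mem_TA_insert 𝒯 A d T).mpr ⟨hT, hdT⟩
    exact hyT ((hE T hmem).mp hxT)
  have e1 := card_filter_incl_excl S x d y
  have e3 := card_filter_incl_excl S d x y
  have e4 := card_filter_incl_excl S y x d
  rw [hn0, h2 x y hx hy hxy] at e1
  rw [h1 d hd, h2 d x hd hx hdx, h2 d y hd hy hdy, hc1] at e3
  rw [h1 y hy, h2 y x hy hx hxy.symm, h2 y d hy hd hdy.symm, hc2] at e4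
  have hn3 : (S.filter (fun T => d ∈ T ∧ x ∉ T ∧ y ∉ T)).card = 0 := by omega
  have hn4 : (S.filter (fun T => y ∈ T ∧ x ∉ T ∧ d ∉ T)).card = 0 := by omega
  rw [Finset.card_eq_zero, Finset.filter_eq_empty_iff] at hn3 hn4
  intro T hT
  obtain ⟨hTS, hxT⟩ := (mem_TA_insert 𝒯 A x T).mp hT
  constructor
  · intro hdT
    by_contra hyT
    exact hn3 hTS ⟨hdT, hxT, hyT⟩
  · intro hyT
    by_contra hdT
    exact hn4 hTS ⟨hyT, hxT, hdT⟩

end comb

end Cfsg.Agent.Helper33.Marg
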