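import Mathlib
import Cfsg.Agent.Helper58.Marggraf
import Cfsg.Agent.Helper60.Marg.Defs

/-!
# (M3) of helper60's S3620 (Marggraf): an `m`-transitive group moves an `m`-set onto a set meeting
it in exactly one prescribed point
-/

set_option autoImplicit false

namespace Cfsg.Agent.Helper33.Marg

open Cfsg.Agent.Helper60.Marg Cfsg.Agent.Helper58 MulAction

section grp

variable {G : Type*} [Group G] {Ω : Type*} [MulAction G Ω]

/-- an embedding of `Fin m` with prescribed range of `ncard = m` -/
theorem exists_embedding_range [Finite Ω] (Γ : Set Ω) (m : ℕ) (hm : Γ.ncard = m) :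
    ∃ x : Fin m ↪ Ω, Set.range x = Γ := by
  have hfin : Γ.Finite := Set.toFinite Γ
  have hcard : Nat.card Γ = m := by rw [Nat.card_coe_set_eq]; exact hm
  have : Finite Γ := hfin.to_subtype
  have e : Fin m ≃ Γ := ((Finite.equivFinOfCardEq hcard).symm)
  refine ⟨e.toEmbedding.trans (Function.Embedding.subtype _), ?_⟩
  ext z
  constructor
  · rintro ⟨i, rfl⟩
    exact (e i).2
  · intro hz
    exact ⟨e.symm ⟨z, hz⟩, by simp⟩

/-- (M3) an `m`-transitive group moves an `m`-set onto a set meeting it in one prescribed point -/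
theorem exists_inter_singleton [Finite Ω] (Γ : Set Ω) (m : ℕ) (hm : Γ.ncard = m)
    (hn : 2 * m ≤ Nat.card Ω + 1) (hmt : IsMultiplyPretransitive G Ω m) (α : Ω) (hα : α ∈ Γ) :
    ∃ g : G, Γ ∩ {z | g • z ∈ Γ} = {α} := by
  classical
  have hfin : Γ.Finite := Set.toFinite Γ
  have hm1 : 1 ≤ m := by
    rw [← hm]
    exact (Set.ncard_pos hfin).mpr ⟨α, hα⟩
  -- `m - 1` points outside `Γ`
  have hcompl : m - 1 ≤ (Γᶜ).ncard := by
    have h1 := Set.ncard_add_ncard_compl Γ
    rw [hm] at h1
    omega
  obtain ⟨B, hBsub, hBcard⟩ := Set.exists_subset_card_eq hcompl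
  have hαB : α ∉ B := fun h => hBsub h hα
  have hΓ' : (insert α B).ncard = m := by
    rw [Set.ncard_insert_of_notMem hαB (Set.toFinite B), hBcard]
    omega
  obtain ⟨x, hx⟩ := exists_embedding_range (insert α B) m hΓ'
  obtain ⟨y, hy⟩ := exists_embedding_range Γ m hm
  obtain ⟨g, hg⟩ := (isMultiplyPretransitive_iff (G := G) (α := Ω)).mp hmt x y
  have hgx : ∀ i, g • x i = y i := fun i => by
    have := congrArg (fun f : Fin m ↪ Ω => f i) hg
    simpa using this
  refine ⟨g, ?_⟩
  have hset : {z | g • z ∈ Γ} = insert α B := by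
    ext z
    constructor
    · intro hz
      rw [Set.mem_ofPred_eq, ← hy] at hz
      obtain ⟨i, hi⟩ := hz
      rw [← hgx i] at hi
      have : x i = z := MulAction.injective g hi
      rw [← this, ← hx]
      exact ⟨i, rfl⟩
    · intro hz
      rw [← hx] at hz
      obtain ⟨i, rfl⟩ := hz
      rw [Set.mem_ofPred_eq, hgx i, ← hy]
      exact ⟨i, rfl⟩
  rw [hset]
  ext z
  constructor
  · rintro ⟨hzΓ, hz⟩
    rcases hz with rfl | hz
    · exact Set.mem_singleton _
    · exact absurd hzΓ (hBsub hz)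
  · intro hz
    rw [Set.mem_singleton_iff] at hz
    rw [hz]
    exact ⟨hα, Set.mem_insert _ _⟩

end grp

end Cfsg.Agent.Helper33.Marg
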